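import Groth.Agent.FreeCurve.MorExist
import Groth.Agent.PnSpec.Basic
import Groth.Agent.LHilb.HilbApp
import Groth.Agent.LHilb.ObsTheoryHilb
import Groth.Agent.S12271
import Groth.Agent.AdicBasics.Dimension
import Groth.Agent.S1676
import Groth.Agent.GrpOmega.Diff
import Groth.Agent.ExtFund.CanonRows
import Groth.Agent.DualGeneric.GenusZero
import Groth.Agent.W7Hull.HomAdj
import Groth.Agent.CurveRR.Euler
import Groth.Prelude.Def_Curve
import Mathlib

/-!
# The dimension of a scheme of morphisms at a point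
-/

set_option autoImplicit false
set_option linter.style.haveILetI false
set_option backward.isDefEq.respectTransparency false
set_option backward.isDefEq.respectTransparency.types false
set_option synthInstance.maxHeartbeats 400000
set_option maxHeartbeats 1000000

universe u

open CategoryTheory CategoryTheory.Limits AlgebraicGeometry
open IsLocalRing (closedPoint)
attribute [local instance] HasDerivedCategory.standard

noncomputable section

namespace Groth.Agent.MoriBB

variable {k : Type u} [Field k]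

theorem cancel_h1 {n a b : ℕ} (hn : n + b ≤ a) {d : WithBot ℕ∞}
    (h : ((a : ℕ∞) : WithBot ℕ∞) ≤ d + ((b : ℕ∞) : WithBot ℕ∞)) : ((n : ℕ∞) : WithBot ℕ∞) ≤ d := by
  induction d using WithBot.recBotCoe with
  | bot => simp at h
  | coe d =>
    rw [← WithBot.coe_add, WithBot.coe_le_coe] at h
    rw [WithBot.coe_le_coe]
    induction d using ENat.recTopCoe with
    | top => exact le_top
    | coe d =>
      norm_cast at h ⊢
      omega

/-- The graph of a morphism. -/
def graph {X C : Scheme.{u}} (q : X ⟶ Spec (CommRingCat.of k)) (p : C ⟶ Spec (CommRingCat.of k))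
    (f : C ⟶ X) (hf : f ≫ q = p) : C ⟶ pullback p q :=
  pullback.lift (𝟙 C) f (by rw [Category.id_comp, hf])

theorem exists_mor_dim [IsAlgClosed k] {X : Scheme.{u}} [X.Over (Spec (CommRingCat.of k))]
    [Smooth (X ↘ Spec (CommRingCat.of k))]
    (hproj : ∃ (N : ℕ) (ι : X ⟶ CohB1.ProjSpace N k), IsClosedImmersion ι ∧
      ι ≫ CohB1.ProjSpace.toSpec N k = X ↘ Spec (CommRingCat.of k))
    {C : Scheme.{u}} [C.Over (Spec (CommRingCat.of k))]
    (hC : Curve.IsSmoothProperCurve k C (C ↘ Spec (CommRingCat.of k)))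
    (f : C ⟶ X) (hf : f ≫ (X ↘ Spec (CommRingCat.of k)) = C ↘ Spec (CommRingCat.of k)) (n : ℕ)
    (hn : (n : ℤ) ≤ Curv2.euler k C (RefHull.dual ((Scheme.Modules.pullback f).obj
      (Omega.sheaf (X ↘ Spec (CommRingCat.of k)))))) :
    ∃ (M : Over (Spec (CommRingCat.of k))) (_ : LocallyOfFiniteType M.hom)
      (v : MorSch.Obj (C ↘ Spec (CommRingCat.of k)) (X ↘ Spec (CommRingCat.of k)) M)
      (_ : FreeCurve.IsUnivN (C ↘ Spec (CommRingCat.of k)) (X ↘ Spec (CommRingCat.of k)) M v)
      (m₀ : Over.mk (𝟙 (Spec (CommRingCat.of k))) ⟶ M),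
      PicF.XTmap (C ↘ Spec (CommRingCat.of k)) m₀ ≫ v.1 =
        pullback.fst (C ↘ Spec (CommRingCat.of k)) (Over.mk (𝟙 (Spec (CommRingCat.of k)))).hom ≫ f ∧
      ((n : ℕ∞) : WithBot ℕ∞) ≤ ringKrullDim (M.left.presheaf.stalk (m₀.left (closedPoint k))) := by
  let p := C ↘ Spec (CommRingCat.of k)
  let q := X ↘ Spec (CommRingCat.of k)
  obtain ⟨hCp, hCs, hCi, hCd⟩ := hC
  haveI := hCp
  haveI := hCs
  haveI := hCi
  obtain ⟨N, ι, hι, hιq⟩ := hproj
  haveI := hι
  haveI : IsProper q := by
    haveI := ProjMor.isProper_toSpec N k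
    show IsProper (X ↘ Spec (CommRingCat.of k))
    rw [← hιq]; infer_instance
  haveI : IsProper p := hCp
  haveI : Smooth q := inferInstanceAs (Smooth (X ↘ Spec (CommRingCat.of k)))
  haveI : Flat p := inferInstance
  obtain ⟨a, ic, hic, hicp⟩ := DualGeneric.exists_projective (k := k) (X := C) hCd
  haveI := hic
  obtain ⟨ea, hea⟩ := PnSpec.exists_iso a k
  obtain ⟨eN, heN⟩ := PnSpec.exists_iso N k
  obtain ⟨r, e, he, heb⟩ := QuotProj.Flag.exists_closed_product (ic ≫ ea.hom) (ι ≫ eN.hom) p q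
    (by rw [Category.assoc, hea]; exact hicp) (by rw [Category.assoc, heN]; exact hιq) (𝟙 (pullback p q))
  rw [Category.id_comp] at heb
  haveI := he
  have hprojC : ∃ (n : ℕ) (c : C ⟶ CohB1.ProjSpaceOver n (Spec (CommRingCat.of k))),
      IsClosedImmersion c ∧ c ≫ CohB1.ProjSpaceOver.toBase n (Spec (CommRingCat.of k)) = p :=
    ⟨a, ic ≫ ea.hom, inferInstance, by rw [Category.assoc, hea]; exact hicp⟩
  obtain ⟨H, Z, hH, ιH, P, eH, rH, d, hd⟩ := Groth.Agent.S3218.result (Spec (CommRingCat.of k)) r (pullback p q) e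
  haveI : LocallyOfFiniteType H.hom := by
    haveI : ∀ a, LocallyOfFiniteType (Limits.Sigma.ι P a ≫ eH.hom ≫ H.hom) := fun a => by
      haveI := (hd a).1
      haveI : IsProper (CohB1.ProjSpaceOver.toBase (rH a) (Spec (CommRingCat.of k))) := HQProj.isProper_toBase _ _
      rw [← (hd a).2]; infer_instance
    have : LocallyOfFiniteType (eH.hom ≫ H.hom) :=
      IsZariskiLocalAtSource.of_openCover (P := @LocallyOfFiniteType) (sigmaOpenCover P) fun a => this a
    exact (MorphismProperty.cancel_left_of_respectsIso @LocallyOfFiniteType eH.hom H.hom).1 this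
  revert Z hH
  rw [heb]
  intro Z hH
  obtain ⟨H₀, v, hv, hpull, -⟩ := FreeCurve.exists_open_locus (p := p) (q := q) H Z hH
  let T₁ : Over (Spec (CommRingCat.of k)) := Over.mk (𝟙 _)
  haveI : IsLocallyNoetherian T₁.left := inferInstanceAs (IsLocallyNoetherian (Spec (CommRingCat.of k)))
  let φ₀ : MorSch.Obj p q T₁ := ⟨pullback.fst p T₁.hom ≫ f, by rw [Category.assoc, hf]⟩
  obtain ⟨m₀, hm₀, -⟩ := hv.2 T₁ φ₀
  have hlft : LocallyOfFiniteType (H₀.ι ≫ H.hom) := inferInstance
  refine ⟨Over.mk (H₀.ι ≫ H.hom), hlft, v, hv, m₀, congrArg Subtype.val hm₀, ?_⟩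
  let y : T₁ ⟶ H := m₀ ≫ Over.homMk H₀.ι rfl
  let i : C ⟶ pullback p q := graph q p f hf
  have hifst : i ≫ pullback.fst p q = 𝟙 C := pullback.lift_fst _ _ _
  haveI : IsClosedImmersion i := by
    haveI : IsClosedImmersion (i ≫ pullback.fst p q) := by rw [hifst]; infer_instance
    exact IsClosedImmersion.of_comp i (pullback.fst p q)
  haveI : Smooth (pullback.fst p q) := MorphismProperty.pullback_fst _ _ ‹Smooth q›
  have hreg := Groth.Agent.S1676.result (pullback.fst p q) i hifst
  have hi : i ≫ FreeCurve.prd p q = p := by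
    rw [FreeCurve.prd, ← Category.assoc, hifst, Category.id_comp]
  have hy : FGA.hilbPull (FreeCurve.prd p q) y Z.1 = i.ker.comap (pullback.fst (FreeCurve.prd p q) T₁.hom) := by
    refine (hpull T₁ m₀).trans ?_
    rw [hm₀]
    haveI : IsIso T₁.hom := inferInstanceAs (IsIso (𝟙 (Spec (CommRingCat.of k))))
    haveI : IsIso (pullback.fst p T₁.hom) := inferInstance
    haveI : IsIso (pullback.fst (FreeCurve.prd p q) T₁.hom) := inferInstance
    have hw : pullback.fst p T₁.hom ≫ i = FreeCurve.gr φ₀ ≫ pullback.fst (FreeCurve.prd p q) T₁.hom := by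
      rw [FreeCurve.gr, pullback.lift_fst]
      apply pullback.hom_ext
      · rw [Category.assoc, hifst, Category.comp_id, pullback.lift_fst]
      · rw [Category.assoc, pullback.lift_snd]
        exact congrArg (_ ≫ ·) (pullback.lift_snd _ _ _)
    have hsq : IsPullback (pullback.fst p T₁.hom) (FreeCurve.gr φ₀) i (pullback.fst (FreeCurve.prd p q) T₁.hom) :=
      IsPullback.of_horiz_isIso ⟨hw⟩
    rw [← Scheme.IdealSheafData.ker_fst_of_isClosedImmersion, ← hsq.flip.isoPullback_inv_fst,
      Scheme.Hom.ker_comp_of_isIso]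
  haveI := hH.1
  haveI : IsNoetherianRing (LHilb.locR H y) := inferInstanceAs (IsNoetherianRing (H.left.presheaf.stalk _))
  haveI : IsProper (FreeCurve.prd p q) := inferInstanceAs (IsProper (pullback.fst p q ≫ p))
  let R := LHilb.proRepHilb (FreeCurve.prd p q) hy hH
  haveI : DCoh.HasSheafHom (Omega.conormal i) := W7Hull.hasSheafHom_sch _
  obtain ⟨-, hge, -⟩ := Groth.Agent.S12271.result (pullback p q) _ C i hi hreg hprojC R
  have hR : ringKrullDim R.ring.carrier = ringKrullDim (LHilb.locR H y) :=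
    AdicBasics.ringKrullDim_completion (LHilb.locR H y)
  rw [hR] at hge
  obtain ⟨e1⟩ := GrpOmega.nonempty_iso_conormal (pullback.fst p q) i hifst
    (OmegaLib.isUniversal_dOmega (pullback.fst p q))
  obtain ⟨e2⟩ := ExtFund.nonempty_omega_pullback (IsPullback.of_hasPullback p q).flip
  let e3 : Omega.conormal i ≅ (Scheme.Modules.pullback f).obj (Omega.sheaf q) :=
    e1 ≪≫ (Scheme.Modules.pullback i).mapIso e2.symm ≪≫
      (Scheme.Modules.pullbackComp i (pullback.snd p q)).app _ ≪≫
      (Scheme.Modules.pullbackCongr (pullback.lift_snd _ _ _)).app _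
  let e4 : (DCoh.sheafHom (Omega.conormal i)).obj (Coh.structureModule C) ≅
      RefHull.dual ((Scheme.Modules.pullback f).obj (Omega.sheaf q)) :=
    (W7Hull.sheafHomIso (Omega.conormal i)).app (Coh.structureModule C) ≪≫ RefFun.dualIso e3
  rw [← CurveRR.euler_eq_of_iso (k := k) e4, CurveRR.euler_eq (k := k) hCd.le] at hn
  have hst : ringKrullDim ((H₀ : Scheme.{u}).presheaf.stalk (m₀.left (closedPoint k))) =
      ringKrullDim (LHilb.locR H y) :=
    ringKrullDim_eq_of_ringEquiv (H₀.stalkIso (m₀.left (closedPoint k))).commRingCatIsoToRingEquiv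
  show _ ≤ ringKrullDim ((H₀ : Scheme.{u}).presheaf.stalk (m₀.left (closedPoint k)))
  rw [hst]
  unfold CurveRR.h at hn
  exact cancel_h1 (by omega) hge

end Groth.Agent.MoriBB
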