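import Groth.Agent.BendBreak.Contracted
import Groth.Agent.BendBreak.Cor
import Groth.Agent.FreeCurve.MorRep
import Groth.Agent.Devissage.Core
import Groth.Agent.SmLocalST.Basic
import Groth.Agent.RegDual.Scheme
import Groth.Prelude.Def_Curve
import Mathlib

/-!
# Bend and break at one fixed point of a curve
-/

set_option autoImplicit false
set_option linter.style.haveILetI false
set_option backward.isDefEq.respectTransparency false
set_option backward.isDefEq.respectTransparency.types false
set_option synthInstance.maxHeartbeats 400000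
set_option maxHeartbeats 1000000

universe u

open CategoryTheory CategoryTheory.Limits AlgebraicGeometry TopologicalSpace MonoidalCategory CartesianMonoidalCategory
open IsLocalRing (closedPoint maximalIdeal)

noncomputable section

namespace Groth.Agent.MoriBB

/-- A prime containing the image of the maximal ideal which is not maximal, when the dimension is large. -/
theorem exists_prime_of_dim {A R : Type u} [CommRing A] [IsLocalRing A] [IsNoetherianRing A] [CommRing R]
    [IsLocalRing R] [IsNoetherianRing R] (φ : A →+* R) [IsLocalHom φ] {m : ℕ}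
    (hA : (maximalIdeal A).spanFinrank ≤ m)
    (hR : (((m + 1 : ℕ) : ℕ∞) : WithBot ℕ∞) ≤ ringKrullDim R) :
    ∃ P : Ideal R, P.IsPrime ∧ P ≠ maximalIdeal R ∧ maximalIdeal A ≤ P.comap φ := by
  let I := (maximalIdeal A).map φ
  by_contra hno
  push Not at hno
  have hI : I.spanFinrank ≤ m := by
    obtain ⟨s, hs, hspan⟩ : ∃ s : Finset A, s.card ≤ m ∧ Ideal.span (s : Set A) = maximalIdeal A := by
      have hfg : (maximalIdeal A).FG := IsNoetherian.noetherian _
      refine ⟨(Submodule.FG.finite_generators hfg).toFinset, ?_, ?_⟩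
      · rw [← Set.ncard_eq_toFinset_card _ (Submodule.FG.finite_generators hfg), Submodule.FG.generators_ncard hfg]
        exact hA
      · rw [Set.Finite.coe_toFinset]
        exact Submodule.span_generators _
    classical
    have h : I = Ideal.span ((s.image φ : Finset R) : Set R) := by
      rw [Finset.coe_image, ← Ideal.map_span, hspan]
    rw [h]
    refine (Submodule.spanFinrank_span_le_ncard_of_finite (Finset.finite_toSet _)).trans ?_
    rw [Set.ncard_coe_finset]
    exact Finset.card_image_le.trans hs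
  have hIle : I ≤ maximalIdeal R := Ideal.map_le_iff_le_comap.2 (le_of_eq (IsLocalRing.maximalIdeal_comap φ).symm)
  haveI : Ring.KrullDimLE 0 (R ⧸ I) := Ring.krullDimLE_zero_iff.2 fun Q hQ => by
    haveI := hQ
    have hle : maximalIdeal A ≤ (Q.comap (Ideal.Quotient.mk I)).comap φ :=
      Ideal.map_le_iff_le_comap.1 (fun x hx => by
        rw [Ideal.mem_comap, Ideal.Quotient.eq_zero_iff_mem.2 hx]; exact Q.zero_mem)
    have he : Q.comap (Ideal.Quotient.mk I) = maximalIdeal R := by
      by_contra hne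
      exact hno _ inferInstance hne hle
    haveI : (Q.comap (Ideal.Quotient.mk I)).IsMaximal := he ▸ IsLocalRing.maximalIdeal.isMaximal R
    rw [← Ideal.map_comap_of_surjective (Ideal.Quotient.mk I) Ideal.Quotient.mk_surjective Q]
    exact Ideal.IsMaximal.map_of_surjective_of_ker_le Ideal.Quotient.mk_surjective
      (fun x hx => by rw [Ideal.mem_comap, RingHom.mem_ker.1 hx]; exact Q.zero_mem)
  have h0 : ringKrullDim (R ⧸ I) ≤ 0 := Order.KrullDimLE.krullDim_le
  have h1 := hR.trans (ringKrullDim_le_ringKrullDim_quotient_add_spanFinrank I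
    (hIle.trans ((IsLocalRing.maximalIdeal_le_jacobson ⊥).trans_eq Ideal.jacobson_bot)))
  have h2 : (((m + 1 : ℕ) : ℕ∞) : WithBot ℕ∞) ≤ ((m : ℕ∞) : WithBot ℕ∞) :=
    h1.trans ((add_le_add h0 (by exact_mod_cast hI)).trans (le_of_eq (zero_add _)))
  norm_cast at h2
  omega

variable {k : Type u} [Field k] [IsAlgClosed k]

local notation "pt₁" => (𝟙_ (Over (Spec (CommRingCat.of k))))

local notation "cl" => IsLocalRing.closedPoint k

theorem exists_rational_of_dim {X : Scheme.{u}} (q : X ⟶ Spec (CommRingCat.of k)) [IsProper q] [Smooth q]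
    [IsIntegral X] (m : ℕ) (hm : topologicalKrullDim X = m) {C : Scheme.{u}} (p : C ⟶ Spec (CommRingCat.of k))
    (hC : Curve.IsSmoothProperCurve k C p)
    {M : Over (Spec (CommRingCat.of k))} [LocallyOfFiniteType M.hom] {v : MorSch.Obj p q M}
    (hv : FreeCurve.IsUnivN p q M v) (m₀ : Over.mk (𝟙 (Spec (CommRingCat.of k))) ⟶ M)
    (hdim : (((m + 1 : ℕ) : ℕ∞) : WithBot ℕ∞) ≤ ringKrullDim (M.left.presheaf.stalk (m₀.left cl))) :
    ∃ g : CohB1.ProjSpace 1 k ⟶ X, g ≫ q = CohB1.ProjSpace.toSpec 1 k ∧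
      ¬ ∃ x : X, Set.range g.base ⊆ {x} := by
  obtain ⟨hCp, hCs, hCi, hCd⟩ := hC
  haveI := hCp
  haveI := hCs
  haveI := hCi
  haveI : IsLocallyNoetherian M.left := hv.1
  haveI : IsLocallyNoetherian X := LocallyOfFiniteType.isLocallyNoetherian q
  let Co : Over (Spec (CommRingCat.of k)) := Over.mk p
  let Xo : Over (Spec (CommRingCat.of k)) := Over.mk q
  haveI : IsProper Co.hom := hCp
  haveI : Smooth Co.hom := hCs
  haveI : IsIntegral Co.left := hCi
  haveI : IsProper Xo.hom := inferInstanceAs (IsProper q)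
  haveI : JacobsonSpace Co.left := LocallyOfFiniteType.jacobsonSpace Co.hom
  obtain ⟨c₁, -, hc₁⟩ := nonempty_inter_closedPoints (X := Co.left) (Z := Set.univ)
    Set.univ_nonempty isClosed_univ.isLocallyClosed
  obtain ⟨c₀, -⟩ := BendBreak.exists_point_of_closed (X := Co) hc₁
  let Fv : Co ⊗ M ⟶ Xo := Over.homMk v.1 (by
    show v.1 ≫ q = _
    rw [v.2, Over.tensorObj_hom]
    rfl)
  let ev : M ⟶ Xo := lift (toUnit M ≫ c₀) (𝟙 M) ≫ Fv
  let μ : pt₁ ⟶ M := m₀
  let pp : pt₁ ⟶ Xo := μ ≫ ev
  let x : X := pp.left cl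
  have hx : IsClosed ({x} : Set X) := BendBreak.point_closed (X := Xo) pp
  have hμ : IsClosed ({m₀.left cl} : Set M.left) := BendBreak.point_closed μ
  have hevm : ev.left (m₀.left cl) = x := (Scheme.Hom.comp_apply m₀.left ev.left cl).symm
  haveI : IsRegularLocalRing (X.presheaf.stalk (ev.left (m₀.left cl))) :=
    SmLocalST.isRegularLocalRing_stalk_of_smooth_field q _
  have hsf : (maximalIdeal (X.presheaf.stalk (ev.left (m₀.left cl)))).spanFinrank ≤ m := by
    have h1 := (IsRegularLocalRing.spanFinrank_maximalIdeal (R := X.presheaf.stalk (ev.left (m₀.left cl)))).le.trans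
      ((RegDual.ringKrullDim_stalk_le_topologicalKrullDim _).trans hm.le)
    exact_mod_cast h1
  haveI : IsLocallyNoetherian Xo.left := inferInstanceAs (IsLocallyNoetherian X)
  obtain ⟨P, hP, hPne, hPle⟩ := exists_prime_of_dim (ev.left.stalkMap (m₀.left cl)).hom hsf hdim
  let a : PrimeSpectrum (M.left.presheaf.stalk (m₀.left cl)) := ⟨P, hP⟩
  let ζ : M.left := M.left.fromSpecStalk (m₀.left cl) a
  have hζm : ζ ⤳ m₀.left cl := by
    have h1 : ζ ∈ Set.range (M.left.fromSpecStalk (m₀.left cl)) := ⟨a, rfl⟩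
    rwa [Scheme.range_fromSpecStalk] at h1
  have hζne : ζ ≠ m₀.left cl := fun h => hPne (by
    have h1 : a = closedPoint _ := (M.left.fromSpecStalk (m₀.left cl)).isEmbedding.injective
      (h.trans Scheme.fromSpecStalk_closedPoint.symm)
    exact congrArg PrimeSpectrum.asIdeal h1)
  have hevζ : ev.left ζ = x := by
    have h1 : Spec.map (ev.left.stalkMap (m₀.left cl)) a = closedPoint _ :=
      PrimeSpectrum.ext ((IsLocalRing.maximalIdeal.isMaximal _).eq_of_le
        (Ideal.IsPrime.ne_top (Ideal.comap_isPrime _ _)) hPle).symm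
    show (M.left.fromSpecStalk (m₀.left cl) ≫ ev.left) a = x
    rw [← Scheme.SpecMap_stalkMap_fromSpecStalk (f := ev.left), Scheme.Hom.comp_apply, h1,
      Scheme.fromSpecStalk_closedPoint]
    exact hevm
  let I := Scheme.IdealSheafData.vanishingIdeal (Devissage.Zc ζ)
  haveI : IsIntegral I.subscheme := Devissage.Zi_isIntegral ζ
  have hrange : Set.range I.subschemeι = closure {ζ} := by
    rw [Scheme.IdealSheafData.range_subschemeι, Scheme.IdealSheafData.coe_support_vanishingIdeal]
    rfl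
  have hsub : Set.range I.subschemeι ⊆ ev.left ⁻¹' {x} := by
    rw [hrange]
    exact closure_minimal (Set.singleton_subset_iff.2 hevζ) (hx.preimage ev.left.continuous)
  obtain ⟨y, hy⟩ : m₀.left cl ∈ Set.range I.subschemeι := hrange ▸ specializes_iff_mem_closure.1 hζm
  have hyc : IsClosed ({y} : Set I.subscheme) := by
    have h1 := hμ.preimage I.subschemeι.continuous
    rwa [show I.subschemeι ⁻¹' {m₀.left cl} = {y} by
      rw [← hy, ← Set.image_singleton, I.subschemeι.isEmbedding.injective.preimage_image]] at h1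
  let V₀ : M.left.Opens := ⟨({m₀.left cl} : Set M.left)ᶜ, hμ.isOpen_compl⟩
  have hV₀ : (I.subschemeι ⁻¹ᵁ V₀ : Set I.subscheme).Nonempty := by
    obtain ⟨z, hz⟩ : ζ ∈ Set.range I.subschemeι := hrange ▸ subset_closure rfl
    exact ⟨z, show I.subschemeι z ∈ V₀ from hz ▸ hζne⟩
  obtain ⟨W, hW, hyW, -⟩ := exists_isAffineOpen_mem_and_subset (X := M.left) (x := I.subschemeι y) (U := ⊤) trivial
  obtain ⟨α, hα⟩ : ∃ α, Spec.map α = hW.fromSpec ≫ M.hom := ⟨_, Spec.map_preimage _⟩
  letI : Algebra k Γ(M.left, W) := α.hom.toAlgebra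
  obtain ⟨B, _, _, _, gB, c, γ, hsm, hBd, hγ, hγc, hγg⟩ := BendBreak.exists_arc M.hom I.subschemeι V₀ hV₀
    hW.fromSpec hα.symm hyc (by rw [hW.range_fromSpec]; exact hyW) (fun h => h hy)
  let Bo : Over (Spec (CommRingCat.of k)) := Over.mk (Spec.map (CommRingCat.ofHom (algebraMap k B)))
  haveI : IsIntegral Bo.left := inferInstanceAs (IsIntegral (Spec (CommRingCat.of B)))
  haveI : IsSeparated Bo.hom := inferInstanceAs (IsSeparated (Spec.map _))
  haveI : QuasiCompact Bo.hom := inferInstanceAs (QuasiCompact (Spec.map _))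
  haveI : LocallyOfFiniteType Bo.hom := by
    haveI := hsm
    exact (HasRingHomProperty.Spec_iff (P := @LocallyOfFiniteType)).2
      (RingHom.finiteType_algebraMap.2 inferInstance)
  haveI : IsLocallyNoetherian Bo.left := LocallyOfFiniteType.isLocallyNoetherian Bo.hom
  have hBdim : topologicalKrullDim Bo.left = 1 :=
    (PrimeSpectrum.topologicalKrullDim_eq_ringKrullDim (R := B)).trans hBd
  have hgM : (γ ≫ I.subschemeι) ≫ M.hom = Bo.hom := by
    rw [hγ, Category.assoc, ← hα, ← Spec.map_comp]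
    exact congrArg Spec.map (CommRingCat.hom_ext (RingHom.ext fun r => gB.commutes r))
  let g : Bo ⟶ M := Over.homMk (γ ≫ I.subschemeι) hgM
  let F : Co ⊗ Bo ⟶ Xo := (Co ◁ g) ≫ Fv
  have hgev : g ≫ ev = toUnit Bo ≫ pp := by
    haveI : LocallyOfFiniteType ((g ≫ ev).left ≫ q) := by
      rw [show (g ≫ ev).left ≫ q = Bo.hom from Over.w (g ≫ ev)]; infer_instance
    refine Over.OverMorphism.ext (ext_of_apply_eq q Set.univ isClosed_univ.isLocallyClosed dense_univ
      (fun b _ _ => ?_) ((Over.w (g ≫ ev)).trans (Over.w (toUnit Bo ≫ pp)).symm))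
    rw [Over.comp_left, Over.comp_left, Scheme.Hom.comp_apply, Scheme.Hom.comp_apply]
    refine (hsub ⟨γ b, (Scheme.Hom.comp_apply γ I.subschemeι b).symm⟩).trans ?_
    haveI : Subsingleton (pt₁).left := inferInstanceAs (Subsingleton (PrimeSpectrum k))
    exact congrArg pp.left (Subsingleton.elim cl ((toUnit Bo).left b))
  have hfix : lift (toUnit Bo ≫ c₀) (𝟙 Bo) ≫ F = toUnit Bo ≫ pp := by
    rw [← hgev]
    show lift (toUnit Bo ≫ c₀) (𝟙 Bo) ≫ (Co ◁ g) ≫ Fv = g ≫ lift (toUnit M ≫ c₀) (𝟙 M) ≫ Fv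
    rw [← Category.assoc, ← Category.assoc, lift_whiskerLeft, comp_lift, Category.id_comp, Category.comp_id,
      ← Category.assoc g, comp_toUnit]
  by_contra hno
  push Not at hno
  obtain ⟨G, hG⟩ := BendBreak.exists_factor_fst (X := Xo) (C := Co) (B := Bo) hCd hBdim F c₀ pp hfix
    fun φ hφ _ => hno φ hφ
  let cp : pt₁ ⟶ Bo := Over.homMk (Spec.map (CommRingCat.ofHom c.toRingHom)) (by
    show Spec.map _ ≫ Spec.map _ = 𝟙 _
    rw [← Spec.map_comp, ← Spec.map_id]
    exact congrArg Spec.map (CommRingCat.hom_ext (RingHom.ext fun r => c.commutes r)))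
  let g₁ : Bo ⟶ M := (toUnit Bo ≫ cp) ≫ g
  have hF₁ : (Co ◁ g₁) ≫ Fv = F := by
    rw [MonoidalCategory.whiskerLeft_comp, Category.assoc]
    show (Co ◁ (toUnit Bo ≫ cp)) ≫ F = F
    rw [hG, whiskerLeft_fst_assoc]
  have hXT : ∀ h : Bo ⟶ M, (Co ◁ h).left = PicF.XTmap p h := fun h => by
    apply pullback.hom_ext
    · exact (congrArg CommaMorphism.left (whiskerLeft_fst Co h)).trans
        (((MorSch.XTmap_fst p h)).symm)
    · exact (congrArg CommaMorphism.left (whiskerLeft_snd Co h)).trans (pullback.lift_snd _ _ _).symm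
  have heq : MorSch.pull p q g₁ v = MorSch.pull p q g v := MorSch.Obj.ext (by
    rw [MorSch.pull_val, MorSch.pull_val, ← hXT, ← hXT]
    exact congrArg CommaMorphism.left hF₁)
  obtain ⟨g', -, hu⟩ := hv.2 Bo (MorSch.pull p q g v)
  have hgg : g₁ = g := (hu g₁ heq).trans (hu g rfl).symm
  have h1 : g.left (genericPoint (Spec (CommRingCat.of B))) = m₀.left cl := by
    rw [← hgg, Over.comp_left, Over.comp_left, Scheme.Hom.comp_apply, Scheme.Hom.comp_apply]
    haveI : Subsingleton (pt₁).left := inferInstanceAs (Subsingleton (PrimeSpectrum k))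
    rw [Subsingleton.elim ((toUnit Bo).left (genericPoint (Spec (CommRingCat.of B)))) cl]
    show (γ ≫ I.subschemeι) (Spec.map (CommRingCat.ofHom c.toRingHom) cl) = _
    rw [Scheme.Hom.comp_apply, hγc, hy]
  exact hγg ((Scheme.Hom.comp_apply γ I.subschemeι _).symm.trans h1)

end Groth.Agent.MoriBB
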