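import Groth.Agent.WeilLib.FrobDeg
import Groth.Agent.S7640
import Groth.Prelude.Def_Curve
import Mathlib

/-!
# Frobenius twists of curves: the same curve with twisted constants
-/

set_option autoImplicit false
set_option linter.style.haveILetI false
set_option backward.isDefEq.respectTransparency false
set_option backward.isDefEq.respectTransparency.types false
set_option synthInstance.maxHeartbeats 400000
set_option maxHeartbeats 1000000

universe u

open CategoryTheory CategoryTheory.Limits AlgebraicGeometry FrobSch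

noncomputable section

namespace Groth.Agent.MoriBB

variable {k : Type u} [Field k]

variable (C : Scheme.{u}) [C.Over (Spec (CommRingCat.of k))]

/-- The same scheme with its constants twisted by an endomorphism of the field. -/
abbrev twOver (σ : k →+* k) : C.Over (Spec (CommRingCat.of k)) :=
  ⟨(C ↘ Spec (CommRingCat.of k)) ≫ Spec.map (CommRingCat.ofHom σ)⟩

theorem finrank_tw (σ : k →+* k) (hσ : Function.Bijective σ) (F : C.Modules) (i : ℕ) :
    @Module.finrank k (Coh.HH C F i) _ _ (@Coh.moduleOver k _ C (twOver C σ) F i) =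
      Module.finrank k (Coh.HH C F i) := by
  have hg : ∀ r : k, Coh.toGlobal ((C ↘ Spec (CommRingCat.of k)) ≫ Spec.map (CommRingCat.ofHom σ)) r =
      Coh.toGlobal (C ↘ Spec (CommRingCat.of k)) (σ r) := fun r => by
    show ((C ↘ Spec (CommRingCat.of k)) ≫ Spec.map (CommRingCat.ofHom σ)).appTop
        ((Scheme.ΓSpecIso (CommRingCat.of k)).inv r) =
      (C ↘ Spec (CommRingCat.of k)).appTop ((Scheme.ΓSpecIso (CommRingCat.of k)).inv (σ r))
    rw [Scheme.Hom.comp_appTop, CommRingCat.comp_apply]
    congr 1
    exact congr($((Scheme.ΓSpecIso_inv_naturality (CommRingCat.ofHom σ)).symm) r)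
  refine congrArg Cardinal.toNat (@rank_eq_of_equiv_equiv k k (Coh.HH C F i) (Coh.HH C F i) _ _
    (@Coh.moduleOver k _ C (twOver C σ) F i) _ _ _ σ (AddEquiv.refl _) hσ fun r m => ?_)
  show (Coh.toGlobal ((C ↘ Spec (CommRingCat.of k)) ≫ Spec.map (CommRingCat.ofHom σ)) r) • m =
    (Coh.toGlobal (C ↘ Spec (CommRingCat.of k)) (σ r)) • m
  rw [hg]

theorem euler_tw (σ : k →+* k) (hσ : Function.Bijective σ) (F : C.Modules) :
    @Curv2.euler k _ C (twOver C σ) F = Curv2.euler k C F :=
  finsum_congr fun i => by rw [finrank_tw C σ hσ F i]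

theorem deg_tw (σ : k →+* k) (hσ : Function.Bijective σ) (F : C.Modules) (n : ℕ) :
    @Curv2.deg k _ C (twOver C σ) F n = Curv2.deg k C F n := by
  rw [Curv2.deg, Curv2.deg, euler_tw C σ hσ, euler_tw C σ hσ]

theorem isCurve_tw (σ : k →+* k) (hσ : Function.Bijective σ)
    (hC : Curve.IsSmoothProperCurve k C (C ↘ Spec (CommRingCat.of k))) :
    Curve.IsSmoothProperCurve k C ((C ↘ Spec (CommRingCat.of k)) ≫ Spec.map (CommRingCat.ofHom σ)) := by
  obtain ⟨h1, h2, h3, h4⟩ := hC
  haveI := h1
  haveI := h2
  haveI : IsIso (CommRingCat.ofHom σ) := (ConcreteCategory.isIso_iff_bijective _).2 hσ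
  exact ⟨inferInstance, inferInstance, h3, h4⟩

section Frob

variable (p : ℕ) [Fact p.Prime] [CharP k p]

variable {C}

variable (k) in
include k in
theorem isCharP_of_over : IsCharP C p := IsCharP.of_hom (C ↘ Spec (CommRingCat.of k)) p

theorem frobPow_over [IsCharP C p] (e : ℕ) :
    WeilLib.frobPow p C e ≫ (C ↘ Spec (CommRingCat.of k)) =
      (C ↘ Spec (CommRingCat.of k)) ≫ Spec.map (CommRingCat.ofHom (iterateFrobenius k p e)) := by
  rw [WeilLib.frobPow_comp, WeilLib.frobPow_Spec]

theorem residueDegree_generic [IsAlgClosed k] [IsIntegral C] [LocallyOfFiniteType (C ↘ Spec (CommRingCat.of k))]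
    (hdim : topologicalKrullDim C = 1) [IsCharP C p] (e : ℕ) :
    (WeilLib.frobPow p C e).residueDegree (genericPoint C) = p ^ e := by
  let x := genericPoint C
  let F := WeilLib.frobPow p C e
  haveI : CharP (C.residueField x) p :=
    charP_of_injective_ringHom (WeilLib.kStr (C ↘ Spec (CommRingCat.of k)) x).injective p
  letI := (WeilLib.kStr (C ↘ Spec (CommRingCat.of k)) x).toAlgebra
  haveI := WeilLib.essFiniteType_residueField (C ↘ Spec (CommRingCat.of k)) x
  have hpd : WeilCoh.pdim C x = 1 := by
    have hu : closure ({x} : Set C) = Set.univ := genericPoint_closure (α := C)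
    rw [WeilCoh.pdim, WeilCoh.natDim, IsHomeomorph.topologicalKrullDim_eq _
      ((Homeomorph.setCongr hu).trans (Homeomorph.Set.univ C)).isHomeomorph, hdim]
    rfl
  have hdeg := WeilLib.finrank_powers p e k (C.residueField x)
    (WeilLib.exists_pdim_eq_trd (C ↘ Spec (CommRingCat.of k)) x).1
  rw [hpd, pow_one] at hdeg
  rw [← hdeg]
  have hrange : Set.range (F.residueFieldMap x) =
      Set.range (iterateFrobenius (C.residueField x) p e) :=
    (WeilLib.range_residueFieldMap_frobPow p e x).trans
      (congrArg Set.range (funext fun z => (iterateFrobenius_def p e z).symm))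
  letI := (F.residueFieldMap x).hom.toAlgebra
  let σ : C.residueField (F x) →+* (iterateFrobenius (C.residueField x) p e).fieldRange :=
    (F.residueFieldMap x).hom.codRestrict _ fun z ↦ by
      show F.residueFieldMap x z ∈ Set.range (iterateFrobenius (C.residueField x) p e)
      rw [← hrange]; exact ⟨z, rfl⟩
  have hσ : Function.Bijective σ := by
    refine ⟨σ.injective, fun w ↦ ?_⟩
    have : (w : C.residueField x) ∈ Set.range (F.residueFieldMap x) := by
      rw [hrange]; exact w.2
    obtain ⟨z, hz⟩ := this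
    exact ⟨z, Subtype.ext hz⟩
  exact Algebra.finrank_eq_of_equiv_equiv (RingEquiv.ofBijective σ hσ) (RingEquiv.refl _)
    (RingHom.ext fun _ ↦ rfl)

/-- A curve of the same genus mapping with arbitrarily large degree. -/
theorem exists_frob_cover [IsAlgClosed k] (hC : Curve.IsSmoothProperCurve k C (C ↘ Spec (CommRingCat.of k)))
    (E : C.Modules) (n : ℕ) (hE : FlatMod.IsFinLocFreeOfRank n E) (e : ℕ) :
    ∃ (C' : Scheme.{u}) (_ : C'.Over (Spec (CommRingCat.of k))) (φ : C' ⟶ C),
      Curve.IsSmoothProperCurve k C' (C' ↘ Spec (CommRingCat.of k)) ∧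
      φ ≫ (C ↘ Spec (CommRingCat.of k)) = C' ↘ Spec (CommRingCat.of k) ∧ Function.Surjective φ ∧
      Curv2.euler k C' (Coh.structureModule C') = Curv2.euler k C (Coh.structureModule C) ∧
      Curv2.deg k C' ((Scheme.Modules.pullback φ).obj E) n = (p ^ e : ℕ) * Curv2.deg k C E n := by
  obtain ⟨h1, h2, h3, h4⟩ := id hC
  haveI := h1
  haveI := h2
  haveI := h3
  haveI := isCharP_of_over k (C := C) p
  have hσ : Function.Bijective (iterateFrobenius k p e) := bijective_iterateFrobenius k p e
  have hC' := isCurve_tw C _ hσ hC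
  refine ⟨C, twOver C (iterateFrobenius k p e), WeilLib.frobPow p C e, hC', frobPow_over p e,
    fun x => ⟨x, WeilLib.frobPow_apply p e x⟩, euler_tw C _ hσ _, ?_⟩
  refine (@Groth.Agent.S7640.result k _ C C (twOver C (iterateFrobenius k p e)) _ h3 h3 hC'.1 h1 h4 h4
    (WeilLib.frobPow p C e) (frobPow_over p e) (WeilLib.frobPow_apply p e _) n E hE).trans ?_
  rw [residueDegree_generic (k := k) p h4 e]

end Frob

end Groth.Agent.MoriBB
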